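import Groth.Agent.Lib.RefHull.HomSh
import Groth.Agent.Lib.DescAlg.FPPush
import Groth.Agent.H26.FreeCrit

/-!
# The sheaf Hom out of a finitely presented module is quasi-coherent
-/

universe u

noncomputable section

open CategoryTheory AlgebraicGeometry TopologicalSpace Opposite

namespace Groth.Agent.Lib.HomFP

open Groth.Agent.Lib Groth.Agent.Lib.TensorMod.Dual RefHull.SecHom RefHull.HomSh

set_option linter.style.haveILetI false

variable {X : Scheme.{u}} {F G : X.Modules}

/-- Generators and generators of their relations, for a finitely presented module. -/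
theorem exists_gens_rels_fp (R : Type u) [CommRing R] (M : Type u)
    [AddCommGroup M] [Module R M] [Module.FinitePresentation R M] :
    ∃ (k l : ℕ) (m : Fin k → M) (r : Fin l → Fin k → R),
      Submodule.span R (Set.range m) = ⊤ ∧ (∀ j, ∑ i, r j i • m i = 0) ∧
      ∀ (P : Type u) [AddCommGroup P] [Module R P] (n : Fin k → P),
        (∀ j, ∑ i, r j i • n i = 0) → ∃ φ : M →ₗ[R] P, ∀ i, φ (m i) = n i := by
  obtain ⟨k, m, hm⟩ := Module.Finite.exists_fin (R := R) (M := M)
  let π := Fintype.linearCombination R m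
  have hπ : Function.Surjective π := by
    rw [← LinearMap.range_eq_top, Fintype.range_linearCombination, hm]
  obtain ⟨l, r, hr⟩ := Submodule.fg_iff_exists_fin_generating_family.mp
    (Module.FinitePresentation.fg_ker π hπ)
  refine ⟨k, l, m, r, hm, fun j => ?_, fun P _ _ n hn => ?_⟩
  · have : r j ∈ LinearMap.ker π := hr ▸ Submodule.subset_span ⟨j, rfl⟩
    exact this
  · let φ₀ := Fintype.linearCombination R n
    have hle : LinearMap.ker π ≤ LinearMap.ker φ₀ := by
      rw [← hr, Submodule.span_le]
      rintro _ ⟨j, rfl⟩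
      exact hn j
    refine ⟨((LinearMap.ker π).liftQ φ₀ hle).comp
      (π.quotKerEquivOfSurjective hπ).symm.toLinearMap, fun i => ?_⟩
    classical
    have h1 : (π.quotKerEquivOfSurjective hπ).symm (m i) =
        Submodule.Quotient.mk (Pi.single i (1 : R)) := by
      rw [LinearEquiv.symm_apply_eq, LinearMap.quotKerEquivOfSurjective_apply_mk]
      exact ((Fintype.linearCombination_apply_single R m i 1).trans (one_smul _ _)).symm
    rw [LinearMap.comp_apply, LinearEquiv.coe_coe, h1, Submodule.liftQ_apply]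
    exact (Fintype.linearCombination_apply_single R n i 1).trans (one_smul _ _)

/-- The sheaf Hom is quasi-coherent. -/
theorem isQCoh_homSh_of_isFP (hF : CohB1.IsFP F) (hG : Coh.IsQCoh G) :
    (RefHull.homSh F G).IsQuasicoherent := by
  haveI := Groth.Agent.H26.FreeCrit.isQuasicoherent_of_isFP hF
  haveI : G.IsQuasicoherent := hG
  refine QCoh.Localizing.isQCoh_of_forall_exists_localizes fun x => ?_
  obtain ⟨U, hU, hx, -⟩ := exists_isAffineOpen_mem_and_subset (X := X) (x := x)
    (Opens.mem_top x)
  refine ⟨U, hU, hx, fun f => ⟨fun s => ?_, fun t ht => ?_⟩⟩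
  · haveI := DescAlg.FPPush.finitePresentation_sections hU F hF
    obtain ⟨k, l, m, r, hm, hr, hlift⟩ := exists_gens_rels_fp Γ(X, U) Γ(F, U)
    have L := QCoh.Localizing.localizes_of_isAffineOpen G hU f
    let D : X.Opens := X.basicOpen f
    have hD : D ≤ U := X.basicOpen_le f
    choose N n hn using fun i => L.ext' (app s le_rfl (rs F hD (m i)))
    let N₀ := Finset.univ.sup N
    let n₀ : Fin k → Γ(G, U) := fun i => f ^ (N₀ - N i) • n i
    have hn₀ : ∀ i, rs G hD (n₀ i) = rf hD f ^ N₀ • app s le_rfl (rs F hD (m i)) := fun i => by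
      rw [rs_smul]
      rw [show rs G hD (n i) = rf hD f ^ N i • app s le_rfl (rs F hD (m i)) from hn i, smul_smul,
        rf, map_pow, ← pow_add, Nat.sub_add_cancel (Finset.le_sup (f := N) (Finset.mem_univ i))]
    have hz : ∀ j, ∃ M : ℕ, f ^ M • ∑ i, r j i • n₀ i = 0 := fun j => by
      refine L.sep _ ?_
      change rs G hD _ = 0
      have e : app s le_rfl (rs F hD (∑ i, r j i • m i)) = 0 := by
        rw [hr j, rs, map_zero, map_zero]
      rw [rs_sum, map_sum] at e
      rw [rs_sum]
      refine Eq.trans ?_ (smul_zero (rf hD f ^ N₀))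
      rw [← e, Finset.smul_sum]
      exact Finset.sum_congr rfl fun i _ => by
        rw [rs_smul G, rs_smul F, map_smul, hn₀, smul_comm]
    choose M hM using hz
    let M₀ := Finset.univ.sup M
    obtain ⟨φ, hφ⟩ := hlift Γ(G, U) (fun i => f ^ M₀ • n₀ i) fun j => by
      calc ∑ i, r j i • f ^ M₀ • n₀ i = f ^ (M₀ - M j) • f ^ M j • ∑ i, r j i • n₀ i := by
            rw [smul_smul, ← pow_add, Nat.sub_add_cancel (Finset.le_sup (f := M) (Finset.mem_univ j)),
              Finset.smul_sum]
            exact Finset.sum_congr rfl fun i _ => smul_comm _ _ _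
        _ = 0 := by rw [hM, smul_zero]
    obtain ⟨g, hg⟩ := exists_sec_of_linear hU le_rfl φ.toAddMonoidHom fun a b => by
      rw [rf_self]; exact φ.map_smul a b
    refine ⟨M₀ + N₀, g, ?_⟩
    refine sec_ext_of_gens hU hD hm ?_
    rintro _ ⟨i, rfl⟩
    have hgi : app g le_rfl (m i) = f ^ M₀ • n₀ i := by
      have := hg (m i)
      rw [rs_self] at this
      exact this.trans (hφ i)
    refine (app_res g le_rfl hD (m i)).trans ?_
    rw [hgi, rs_smul, hn₀, app_smul_left, rf_self, smul_smul]
    change (rf hD (f ^ M₀) * rf hD f ^ N₀) • _ = (rf hD f ^ (M₀ + N₀)) • _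
    rw [pow_add, rf, map_pow]
  · haveI := DescAlg.FPPush.finitePresentation_sections hU F hF
    obtain ⟨k, m, hm⟩ := Module.Finite.exists_fin (R := Γ(X, U)) (M := Γ(F, U))
    have L := QCoh.Localizing.localizes_of_isAffineOpen G hU f
    have hz : ∀ i, ∃ M : ℕ, f ^ M • app t le_rfl (m i) = 0 := fun i => by
      refine L.sep _ ?_
      change rs G (X.basicOpen_le f) _ = 0
      rw [← app_res t le_rfl (X.basicOpen_le f)]
      rw [show rs (RefHull.homSh F G) ((X.basicOpen_le f).trans le_rfl) t = 0 from ht]
      exact app_zero_left _ _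
    choose M hM using hz
    refine ⟨Finset.univ.sup M, sec_ext_of_gens hU le_rfl hm ?_⟩
    rintro _ ⟨i, rfl⟩
    rw [app_zero_left, rs_self, app_smul_left, rf_self,
      ← Nat.sub_add_cancel (Finset.le_sup (f := M) (Finset.mem_univ i)), pow_add, mul_smul, hM,
      smul_zero]

end Groth.Agent.Lib.HomFP
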